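import Cfsg.Agent.Lib.Transfer.Tate
import Cfsg.Agent.Lib.Components.GenFitting
import Cfsg.Agent.Lib.Components.Permute
import Cfsg.Agent.Lib.Solvable.Gaschutz
import Cfsg.Agent.Lib.Solvable.Core
import Cfsg.Agent.Lib.PLocal.SylowAux
import Mathlib.GroupTheory.SpecificGroups.Cyclic

/-!
# Groups with a two-generated Sylow subgroup

With trivial `p'`-core and no normal subgroup inside the Frattini subgroup of a nonabelian
two-generated Sylow `p`-subgroup, the generalized Fitting subgroup is the unique minimal normal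
subgroup.
-/

set_option autoImplicit false
set_option linter.style.haveILetI false
set_option linter.unusedSectionVars false

namespace CfsgLib.TwoGenSylow

open Subgroup CfsgLib.Components
open scoped commutatorElement

universe u

section Group

variable {Q : Type u} [Group Q] [Finite Q] {p : ℕ} [hp : Fact p.Prime]

theorem index_sup_zpowers (hna : ¬ IsMulCommutative Q) (hidx : (frattini Q).index = p ^ 2) {a : Q}
    (ha : a ∉ frattini Q) : (frattini Q ⊔ zpowers a).index = p := by
  have hdvd : (frattini Q ⊔ zpowers a).index ∣ p ^ 2 := hidx ▸ index_dvd_of_le le_sup_left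
  obtain ⟨i, hi, hi'⟩ := (Nat.dvd_prime_pow hp.out).1 hdvd
  rw [hi']
  interval_cases i
  · exfalso
    rw [pow_zero, index_eq_one] at hi'
    have hc : zpowers a = ⊤ := frattini_nongenerating (by rw [sup_comm]; exact hi')
    apply hna
    refine ⟨⟨fun x y => ?_⟩⟩
    obtain ⟨i, rfl⟩ := mem_zpowers_iff.1 (show x ∈ zpowers a by rw [hc]; exact mem_top x)
    obtain ⟨j, rfl⟩ := mem_zpowers_iff.1 (show y ∈ zpowers a by rw [hc]; exact mem_top y)
    rw [← zpow_add, ← zpow_add, add_comm]
  · exact pow_one p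
  · exfalso
    apply ha
    have h := relIndex_mul_index (le_sup_left : frattini Q ≤ frattini Q ⊔ zpowers a)
    rw [hidx, hi'] at h
    have h1 : (frattini Q).relIndex (frattini Q ⊔ zpowers a) = 1 :=
      (Nat.mul_eq_right (pow_ne_zero _ hp.out.ne_zero)).1 h
    exact relIndex_eq_one.1 h1 (mem_sup_right (mem_zpowers a))

theorem sup_eq_top_of_not_mem (hna : ¬ IsMulCommutative Q) (hidx : (frattini Q).index = p ^ 2) {a b : Q}
    (ha : a ∉ frattini Q) (hb : b ∉ frattini Q ⊔ zpowers a) : zpowers a ⊔ zpowers b = ⊤ := by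
  apply frattini_nongenerating
  rw [← index_eq_one]
  have hle : frattini Q ⊔ zpowers a ≤ zpowers a ⊔ zpowers b ⊔ frattini Q :=
    sup_le le_sup_right (le_sup_left.trans le_sup_left)
  have hd := index_dvd_of_le hle
  rw [index_sup_zpowers hna hidx ha] at hd
  refine ((Nat.dvd_prime hp.out).1 hd).resolve_right fun h => hb ?_
  have h2 := relIndex_mul_index hle
  rw [h, index_sup_zpowers hna hidx ha] at h2
  exact relIndex_eq_one.1 ((Nat.mul_eq_right hp.out.ne_zero).1 h2) (mem_sup_left (mem_sup_right (mem_zpowers b)))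

theorem exists_pair (hna : ¬ IsMulCommutative Q) (hidx : (frattini Q).index = p ^ 2) {a : Q}
    (ha : a ∉ frattini Q) : ∃ b, zpowers a ⊔ zpowers b = ⊤ := by
  obtain ⟨b, hb⟩ : ∃ b, b ∉ frattini Q ⊔ zpowers a := by
    by_contra hc
    push Not at hc
    have h := index_sup_zpowers hna hidx ha
    rw [index_eq_one.2 (eq_top_iff.2 fun x _ => hc x)] at h
    exact hp.out.ne_one h.symm
  exact ⟨b, sup_eq_top_of_not_mem hna hidx ha hb⟩

theorem commutatorElement_mem_of_sup_zpowers {A : Subgroup Q} [A.Normal] {b : Q} (h : A ⊔ zpowers b = ⊤) (x y : Q) :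
    ⁅x, y⁆ ∈ A := by
  have key : ∀ x : Q, (QuotientGroup.mk' A) x ∈ zpowers (QuotientGroup.mk' A b) := by
    intro x
    obtain ⟨a, ha, c, hc, rfl⟩ := mem_sup_of_normal_left.1 (show x ∈ A ⊔ zpowers b by rw [h]; exact mem_top x)
    obtain ⟨i, rfl⟩ := mem_zpowers_iff.1 hc
    refine ⟨i, ?_⟩
    rw [map_mul, map_zpow, show QuotientGroup.mk' A a = 1 from (QuotientGroup.eq_one_iff a).2 ha, one_mul]
  rw [← QuotientGroup.eq_one_iff, ← QuotientGroup.mk'_apply, map_commutatorElement,
    commutatorElement_eq_one_iff_mul_comm]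
  obtain ⟨i, hi⟩ := key x
  obtain ⟨j, hj⟩ := key y
  rw [← hi, ← hj]
  exact zpow_mul_comm _ i j

/-- Two commuting normal subgroups meeting trivially cannot both escape the Frattini subgroup. -/
theorem not_two_normal (hna : ¬ IsMulCommutative Q) (hidx : (frattini Q).index = p ^ 2) {A B : Subgroup Q}
    [A.Normal] [B.Normal] (hcomm : ∀ x ∈ A, ∀ y ∈ B, x * y = y * x) (hAB : A ⊓ B = ⊥)
    (hA : ¬ A ≤ frattini Q) (hB : ¬ B ≤ frattini Q) : False := by
  obtain ⟨a1, ha1, ha1'⟩ := SetLike.not_le_iff_exists.1 hA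
  obtain ⟨a2, ha2, ha2'⟩ := SetLike.not_le_iff_exists.1 hB
  apply hna
  refine ⟨⟨fun x y => ?_⟩⟩
  by_cases h : a2 ∈ frattini Q ⊔ zpowers a1
  · obtain ⟨b, hb⟩ : ∃ b, b ∉ frattini Q ⊔ zpowers a1 := by
      by_contra hc
      push Not at hc
      have h := index_sup_zpowers hna hidx ha1'
      rw [index_eq_one.2 (eq_top_iff.2 fun x _ => hc x)] at h
      exact hp.out.ne_one h.symm
    have hle : frattini Q ⊔ zpowers a2 ≤ frattini Q ⊔ zpowers a1 := sup_le le_sup_left (zpowers_le.2 h)
    have hb' : b ∉ frattini Q ⊔ zpowers a2 := fun h' => hb (hle h')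
    have e1 : A ⊔ zpowers b = ⊤ := top_le_iff.1 ((sup_eq_top_of_not_mem hna hidx ha1' hb) ▸ sup_le_sup_right (zpowers_le.2 ha1) _)
    have e2 : B ⊔ zpowers b = ⊤ := top_le_iff.1 ((sup_eq_top_of_not_mem hna hidx ha2' hb') ▸ sup_le_sup_right (zpowers_le.2 ha2) _)
    have hm : ⁅x, y⁆ ∈ A ⊓ B := ⟨commutatorElement_mem_of_sup_zpowers e1 x y, commutatorElement_mem_of_sup_zpowers e2 x y⟩
    rw [hAB, mem_bot, commutatorElement_eq_one_iff_mul_comm] at hm
    exact hm
  · have ht := sup_eq_top_of_not_mem hna hidx ha1' h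
    have hc : (⊤ : Subgroup Q) ≤ centralizer ((zpowers a1 ⊔ zpowers a2 : Subgroup Q) : Set Q) := by
      rw [centralizer_sup_eq, ← ht]
      have h12 : zpowers a1 ≤ centralizer (zpowers a2 : Set Q) := by
        intro u hu
        rw [mem_centralizer_iff]
        intro v hv
        exact (hcomm u (zpowers_le.2 ha1 hu) v (zpowers_le.2 ha2 hv)).symm
      exact sup_le (le_inf (le_centralizer _) h12) (le_inf (le_centralizer_iff.1 h12) (le_centralizer _))
    rw [ht] at hc
    exact ((mem_centralizer_iff.1 (hc (mem_top x))) y (mem_top y)).symm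

end Group

variable {G : Type u} [Group G] [Finite G] {p : ℕ} [hp : Fact p.Prime]

/-- Tate's theorem for a subgroup normalized by a Sylow subgroup. -/
theorem hasNormalPComplement_of_le_frattini (P : Sylow p G) (M : Subgroup G)
    (hPM : (P : Subgroup G) ≤ normalizer (M : Set G))
    (h : M.subgroupOf (P : Subgroup G) ≤ frattini ↥(P : Subgroup G)) : Cfsg.HasNormalPComplement p M := by
  set K := normalizer (M : Set G)
  let Q : Sylow p K := P.subtype hPM
  haveI : (M.subgroupOf K).Normal := normal_in_normalizer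
  have hN : Cfsg.HasNormalPComplement p (M.subgroupOf K) := by
    refine CfsgLib.Transfer.hasNormalPComplement_of_inf_le_frattini Q (M.subgroupOf K) ?_
    rintro x ⟨hxM, hxP⟩
    let e : (P : Subgroup G) →* (Q : Subgroup K) :=
      MonoidHom.mk' (fun b => ⟨⟨b, hPM b.2⟩, b.2⟩) (fun _ _ => rfl)
    have he : Function.Surjective e := fun a => ⟨⟨((a : K) : G), a.2⟩, rfl⟩
    have h2 := frattini_le_comap_frattini_of_surjective he (h (show (⟨(x : G), hxP⟩ : (P : Subgroup G)) ∈ M.subgroupOf P from hxM))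
    exact ⟨e ⟨(x : G), hxP⟩, h2, rfl⟩
  exact (CfsgLib.Transfer.hasNormalPComplement_congr (subgroupOfEquivOfLe Subgroup.le_normalizer)).1 hN

/-- A subnormal subgroup with a normal `p`-complement is a `p`-group when `O_{p'}(G) = 1`. -/
theorem isPGroup_of_subnormal_npc (hO : Cfsg.pPrimeCore p G = ⊥) {M : Subgroup G} (hM : M.IsSubnormal)
    (h : Cfsg.HasNormalPComplement p M) : IsPGroup p M := by
  set R := Cfsg.pResidual p M
  have hcop : (Nat.card (R.map M.subtype)).Coprime p := by
    rw [card_map_of_injective M.subtype_injective, Nat.coprime_comm, hp.out.coprime_iff_not_dvd]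
    exact CfsgLib.Transfer.hasNormalPComplement_iff_not_dvd.1 h
  haveI : R.Normal := CfsgLib.Transfer.pResidual_normal
  have hsub : (R.map M.subtype).IsSubnormal := (Subgroup.Normal.isSubnormal inferInstance : R.IsSubnormal).trans' hM
  have hbot : R.map M.subtype = ⊥ := le_bot_iff.1 (hO ▸ le_pPrimeCore_of_isSubnormal hsub hcop)
  rw [map_eq_bot_iff_of_injective _ M.subtype_injective] at hbot
  have hq := CfsgLib.Transfer.isPGroup_quotient_pResidual (G := M) (p := p)
  refine hq.of_injective (QuotientGroup.mk' R) ?_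
  rw [← MonoidHom.ker_eq_bot_iff, QuotientGroup.ker_mk', hbot]

section Main

variable (P : Sylow p G)

/-- The hypotheses. -/
structure Hyp : Prop where
  na : ¬ IsMulCommutative (P : Subgroup G)
  gen : (frattini ↥(P : Subgroup G)).index = p ^ 2
  core : Cfsg.pPrimeCore p G = ⊥
  frat : ((frattini ↥(P : Subgroup G)).map (P : Subgroup G).subtype).normalCore = ⊥

variable {P} (H : Hyp P)
include H

theorem eq_bot_of_le_frattini {N : Subgroup G} [N.Normal]
    (h : N ≤ (frattini ↥(P : Subgroup G)).map (P : Subgroup G).subtype) : N = ⊥ :=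
  le_bot_iff.1 (H.frat ▸ normal_le_normalCore.2 h)

theorem not_le_frattini {N : Subgroup G} [N.Normal] (hN : N ≠ ⊥) :
    ¬ N.subgroupOf (P : Subgroup G) ≤ frattini ↥(P : Subgroup G) := by
  intro h
  have hnpc := hasNormalPComplement_of_le_frattini P N (by rw [normalizer_eq_top]; exact le_top) h
  have hp' := isPGroup_of_subnormal_npc H.core (Subgroup.Normal.isSubnormal inferInstance) hnpc
  refine hN (eq_bot_of_le_frattini H fun x hx => ?_)
  have hxP : x ∈ (P : Subgroup G) := hp'.le_sylow_of_normal P hx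
  exact ⟨⟨x, hxP⟩, h (show (⟨x, hxP⟩ : (P : Subgroup G)) ∈ N.subgroupOf (P : Subgroup G) from hx), rfl⟩

theorem not_commute_pair {M N : Subgroup G} (hM : (P : Subgroup G) ≤ normalizer (M : Set G))
    (hN : (P : Subgroup G) ≤ normalizer (N : Set G)) (hc : M ≤ centralizer (N : Set G)) (hd : M ⊓ N = ⊥)
    (hM' : ¬ M.subgroupOf (P : Subgroup G) ≤ frattini ↥(P : Subgroup G))
    (hN' : ¬ N.subgroupOf (P : Subgroup G) ≤ frattini ↥(P : Subgroup G)) : False := by
  haveI : (M.subgroupOf (P : Subgroup G)).Normal := normal_subgroupOf_of_le_normalizer hM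
  haveI : (N.subgroupOf (P : Subgroup G)).Normal := normal_subgroupOf_of_le_normalizer hN
  refine not_two_normal H.na H.gen (fun x hx y hy => Subtype.ext (hc hx y hy).symm) ?_ hM' hN'
  rw [eq_bot_iff]
  intro x hx
  have h1 : (x : G) ∈ M ⊓ N := ⟨hx.1, hx.2⟩
  rw [hd, mem_bot] at h1
  exact mem_bot.2 (Subtype.ext h1)

theorem inf_ne_bot {M N : Subgroup G} [M.Normal] [N.Normal] (hM : M ≠ ⊥) (hN : N ≠ ⊥) : M ⊓ N ≠ ⊥ := by
  intro hd
  refine not_commute_pair H (by rw [normalizer_eq_top]; exact le_top) (by rw [normalizer_eq_top]; exact le_top)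
    ?_ hd (not_le_frattini H hM) (not_le_frattini H hN)
  intro x hx
  rw [mem_centralizer_iff]
  exact fun y hy => (commute_of_normal_of_disjoint _ _ inferInstance inferInstance (disjoint_iff.2 hd) x y hx hy).symm

theorem isCyclic_map (M : Subgroup G) [M.Normal] (hM : M ≠ ⊥) :
    IsCyclic ↥((P : Subgroup G).map (QuotientGroup.mk' M)) := by
  obtain ⟨a, haM, haF⟩ := SetLike.not_le_iff_exists.1 (not_le_frattini H hM)
  obtain ⟨b, hb⟩ := exists_pair H.na H.gen haF
  have hP : (P : Subgroup G).map (QuotientGroup.mk' M) = zpowers (QuotientGroup.mk' M (b : G)) := by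
    have e : (P : Subgroup G) = zpowers (a : G) ⊔ zpowers (b : G) := by
      have h := congrArg (Subgroup.map (P : Subgroup G).subtype) hb
      rw [Subgroup.map_sup, MonoidHom.map_zpowers, MonoidHom.map_zpowers, ← MonoidHom.range_eq_map, range_subtype] at h
      exact h.symm
    rw [congrArg (Subgroup.map (QuotientGroup.mk' M)) e, Subgroup.map_sup, MonoidHom.map_zpowers, MonoidHom.map_zpowers,
      show QuotientGroup.mk' M (a : G) = 1 from (QuotientGroup.eq_one_iff _).2 haM, zpowers_one_eq_bot, bot_sup_eq]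
  rw [hP]
  infer_instance

theorem fitting_eq_pCore : Cfsg.fittingSubgroup G = Cfsg.pCore p G := by
  refine le_antisymm (fitting_le_of_pCore_le fun q hq => ?_) (pCore_le_fitting p)
  by_cases hqp : q = p
  · rw [hqp]
  · haveI := Fact.mk hq
    refine le_trans (le_pPrimeCore_of_normal inferInstance ?_) (H.core.le.trans bot_le)
    obtain ⟨i, hi⟩ := (isPGroup_pCore (G := G) q).exists_card_eq
    rw [hi]
    exact ((Nat.coprime_primes hq hp.out).2 hqp).pow_left i

theorem layer_eq_bot_of_pCore_ne_bot (hR : Cfsg.pCore p G ≠ ⊥) : Cfsg.layer G = ⊥ := by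
  by_contra hE
  set E := Cfsg.layer G
  set N := E ⊓ Cfsg.pCore p G with hNdef
  have hN : N ≠ ⊥ := inf_ne_bot H hE hR
  haveI : N.Normal := normal_inf_normal _ _
  refine hN (eq_bot_of_le_frattini H fun z hz => ?_)
  have hRP := CfsgLib.Solvable.pCore_le_sylow P
  set S : Subgroup E := (P : Subgroup G).subgroupOf E
  have hzc : (⟨z, hz.1⟩ : E) ∈ center E := mem_center_iff.2 fun g => Subtype.ext
    ((layer_le_centralizer_pCore p g.2) z hz.2).symm
  have hcop : Nat.Coprime S.index (⁅S, S⁆.relIndex S) := by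
    have hnd : ¬ p ∣ S.index := by
      intro hd
      exact CfsgLib.PLocal.not_dvd_relIndex_sylow P E hd
    have hSp : IsPGroup p S := P.2.comap_of_injective E.subtype E.subtype_injective
    obtain ⟨i, hi⟩ := hSp.exists_card_eq
    refine Nat.Coprime.coprime_dvd_right (relIndex_dvd_card ⁅S, S⁆ S) ?_
    rw [hi]
    exact ((hp.out.coprime_iff_not_dvd.2 hnd).symm).pow_right i
  have hzS : (⟨z, hz.1⟩ : E) ∈ S := hRP hz.2
  have hzder : (⟨z, hz.1⟩ : E) ∈ commutator E := by
    rw [show commutator E = ⊤ from (layer_isPerfect (G := G)).commutator_eq_top]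
    exact mem_top _
  have h1 := CfsgLib.Transfer.center_inf_commutator_inf_le hcop ⟨⟨hzc, hzder⟩, hzS⟩
  have h2 : z ∈ ⁅(P : Subgroup G), (P : Subgroup G)⁆ := by
    have h3 : z ∈ (⁅S, S⁆).map E.subtype := ⟨_, h1, rfl⟩
    rw [map_commutator] at h3
    exact commutator_mono (map_comap_le _ _) (map_comap_le _ _) h3
  rw [← (P : Subgroup G).map_subtype_commutator] at h2
  haveI := P.2.isNilpotent
  obtain ⟨w, hw, rfl⟩ := h2
  exact ⟨w, CfsgLib.Transfer.commutator_le_frattini hw, rfl⟩

theorem layer_le_of_pCore_eq_bot (hR : Cfsg.pCore p G = ⊥) {N : Subgroup G} [N.Normal] (hN : N ≠ ⊥) :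
    Cfsg.layer G ≤ N := by
  have hF : Cfsg.fittingSubgroup G = ⊥ := by rw [fitting_eq_pCore H, hR]
  refine sSup_le fun L hL => ?_
  by_contra hLN
  have hc : ⁅L, N⁆ = ⊥ := (component_le_or_commutator_normal hL inferInstance).resolve_left hLN
  set M := normalClosure (L : Set G)
  have hM : M ≠ ⊥ := fun h => component_ne_bot hL (le_bot_iff.1 (h ▸ le_normalClosure))
  have hMN : M ≤ centralizer (N : Set G) :=
    normalClosure_le_normal (le_centralizer_of_commutator_eq_bot hc)
  have hab : M ⊓ N ≤ Cfsg.fittingSubgroup G := by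
    refine le_fitting_of_normal inferInstance ?_
    let _ : CommGroup ↥(M ⊓ N) :=
      { (inferInstance : Group ↥(M ⊓ N)) with mul_comm := fun a b => Subtype.ext ((hMN a.2.1) b b.2.2).symm }
    exact CommGroup.isNilpotent
  rw [hF, le_bot_iff] at hab
  exact inf_ne_bot H hM hN hab

theorem pCore_le (hR : Cfsg.pCore p G ≠ ⊥) {N : Subgroup G} [N.Normal] (hN : N ≠ ⊥) :
    Cfsg.pCore p G ≤ N := by
  set R := Cfsg.pCore p G
  have hRP : R ≤ (P : Subgroup G) := CfsgLib.Solvable.pCore_le_sylow P
  set K := N ⊓ R with hK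
  have hKne : K ≠ ⊥ := inf_ne_bot H hN hR
  haveI : K.Normal := normal_inf_normal _ _
  have hPp : IsPGroup p (P : Subgroup G) := P.2
  haveI := hPp.isNilpotent
  have hsmall : ∀ x ∈ R, ∀ y ∈ R, x * y = y * x ∧ x ^ p = 1 := by
    intro x hx y hy
    have hc : ∀ g : G, ∀ u ∈ R, g * u * g⁻¹ ∈ (P : Subgroup G) := fun g u hu =>
      hRP ((inferInstance : R.Normal).conj_mem u hu g)
    constructor
    · have h : ⁅x, y⁆ ∈ ((frattini ↥(P : Subgroup G)).map (P : Subgroup G).subtype).normalCore := by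
        intro g
        refine ⟨⁅(⟨_, hc g x hx⟩ : (P : Subgroup G)), (⟨_, hc g y hy⟩ : (P : Subgroup G))⁆,
          CfsgLib.Transfer.commutator_le_frattini (commutator_mem_commutator (mem_top _) (mem_top _)), ?_⟩
        simp only [commutatorElement_def, map_mul, map_inv, coe_subtype]
        group
      rw [H.frat, mem_bot, commutatorElement_eq_one_iff_mul_comm] at h
      exact h
    · have h : x ^ p ∈ ((frattini ↥(P : Subgroup G)).map (P : Subgroup G).subtype).normalCore := by
        intro g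
        refine ⟨(⟨_, hc g x hx⟩ : (P : Subgroup G)) ^ p, CfsgLib.Transfer.pow_mem_frattini hPp _, ?_⟩
        simp only [map_pow, coe_subtype, conj_pow]
      rwa [H.frat, mem_bot] at h
  obtain ⟨a, haK, haF⟩ := SetLike.not_le_iff_exists.1 (not_le_frattini H hKne)
  obtain ⟨b, hb⟩ := exists_pair H.na H.gen haF
  have hPe : (P : Subgroup G) = K ⊔ zpowers (b : G) := by
    refine le_antisymm ?_ (sup_le (inf_le_right.trans hRP) (zpowers_le.2 b.2))
    have h := congrArg (Subgroup.map (P : Subgroup G).subtype) hb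
    rw [Subgroup.map_sup, MonoidHom.map_zpowers, MonoidHom.map_zpowers, ← MonoidHom.range_eq_map, range_subtype] at h
    calc (P : Subgroup G) = _ := h.symm
      _ ≤ K ⊔ zpowers (b : G) := sup_le_sup_right (zpowers_le.2 (show (a : G) ∈ K from haK)) _
  by_contra hRN
  have hRK : ¬ R ≤ K := fun h => hRN (h.trans inf_le_left)
  obtain ⟨c, hcR, hcK⟩ := SetLike.not_le_iff_exists.1 hRK
  obtain ⟨n, hn, d, hd, hnd⟩ := mem_sup_of_normal_left.1 (show c ∈ K ⊔ zpowers (b : G) from hPe ▸ hRP hcR)
  have hdR : d ∈ R := by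
    rw [show d = n⁻¹ * c by rw [← hnd]; group]
    exact mul_mem (inv_mem hn.2) hcR
  have hdK : d ∉ K := fun h => hcK (hnd ▸ mul_mem hn h)
  have hdo : orderOf d = p := orderOf_eq_prime (hsmall d hdR d hdR).2 fun h => hdK (h ▸ one_mem K)
  have hdisj : zpowers (b : G) ⊓ K = ⊥ := by
    rw [eq_bot_iff]
    intro v hv
    rw [mem_bot]
    by_contra hv1
    have hvo : orderOf v = p := orderOf_eq_prime (hsmall v hv.2.2 v hv.2.2).2 hv1
    haveI : IsCyclic ↥(zpowers (b : G)) := inferInstance
    classical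
    cases nonempty_fintype ↥(zpowers (b : G))
    have hcard := IsCyclic.card_pow_eq_one_le (α := ↥(zpowers (b : G))) hp.out.pos
    let f : ↥(zpowers v) → {x : ↥(zpowers (b : G)) // x ^ p = 1} := fun x =>
      ⟨⟨x, zpowers_le.2 hv.1 x.2⟩, Subtype.ext (by
        have h := pow_card_eq_one' (x := x)
        rw [Nat.card_zpowers, hvo] at h
        have h2 := congrArg Subtype.val h
        simpa using h2)⟩
    have hf : Function.Injective f := fun x y h => Subtype.ext (congrArg (fun z => ((z.1 : ↥(zpowers (b : G))) : G)) h)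
    have hle : Nat.card {x : ↥(zpowers (b : G)) // x ^ p = 1} ≤ Nat.card ↥(zpowers v) := by
      rw [Nat.card_zpowers, hvo, Nat.card_eq_fintype_card, Fintype.card_subtype]
      exact hcard
    obtain ⟨x, hx⟩ := (hf.bijective_of_nat_card_le hle).2
      ⟨⟨d, hd⟩, Subtype.ext (by simpa using (hsmall d hdR d hdR).2)⟩
    have hxd : (x : G) = d := congrArg (fun z => ((z.1 : ↥(zpowers (b : G))) : G)) hx
    exact hdK (hxd ▸ zpowers_le.2 hv.2 x.2)
  haveI : IsMulCommutative K := ⟨⟨fun x y => Subtype.ext (hsmall x x.2.2 y y.2.2).1⟩⟩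
  have hcop : (Nat.card K).Coprime (P : Subgroup G).index := by
    obtain ⟨i, hi⟩ := (hPp.to_le (inf_le_right.trans hRP : K ≤ P)).exists_card_eq
    rw [hi]
    exact (hp.out.coprime_iff_not_dvd.2 P.not_dvd_index).pow_left i
  obtain ⟨C, hC⟩ := CfsgLib.Solvable.exists_isComplement'_of_le (inf_le_right.trans hRP) hcop hdisj hPe.symm
  have htop : K ⊔ C = ⊤ := hC.sup_eq_top
  have hCR : (C ⊓ R).Normal := by
    refine normalizer_eq_top_iff.1 (top_le_iff.1 (htop ▸ sup_le ?_ ?_))
    · refine le_trans ?_ (centralizer_le_normalizer _)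
      intro k hk
      rw [mem_centralizer_iff]
      exact fun y hy => (hsmall y hy.2 k hk.2).1
    · refine le_normalizer_iff.2 fun g hg y hy => ⟨C.mul_mem (C.mul_mem hg hy.1) (C.inv_mem hg), ?_⟩
      exact (inferInstance : R.Normal).conj_mem y hy.2 g
  by_cases hbot : C ⊓ R = ⊥
  · apply hRK
    intro r hr
    obtain ⟨k, hk, h, hh, rfl⟩ := mem_sup_of_normal_left.1 (show r ∈ K ⊔ C by rw [htop]; exact mem_top r)
    have h1 : h ∈ C ⊓ R := ⟨hh, (R.mul_mem_cancel_left hk.2).1 hr⟩
    rw [hbot, mem_bot] at h1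
    rw [h1, mul_one]
    exact hk
  · refine inf_ne_bot H hKne hbot (le_bot_iff.1 ?_)
    exact le_trans (inf_le_inf_left K inf_le_left) hC.disjoint.le_bot

theorem genFitting_le {N : Subgroup G} [N.Normal] (hN : N ≠ ⊥) : Cfsg.generalizedFittingSubgroup G ≤ N := by
  by_cases hR : Cfsg.pCore p G = ⊥
  · exact sup_le (layer_le_of_pCore_eq_bot H hR hN) (by rw [fitting_eq_pCore H, hR]; exact bot_le)
  · exact sup_le (by rw [layer_eq_bot_of_pCore_ne_bot H hR]; exact bot_le)
      (by rw [fitting_eq_pCore H]; exact pCore_le H hR hN)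

theorem genFitting_ne_bot' : Cfsg.generalizedFittingSubgroup G ≠ ⊥ := by
  haveI : Nontrivial G := by
    by_contra h
    rw [not_nontrivial_iff_subsingleton] at h
    exact H.na ⟨⟨fun a b => Subsingleton.elim _ _⟩⟩
  exact genFitting_ne_bot

theorem exists_conj (hne : ¬ IsMulCommutative (Cfsg.generalizedFittingSubgroup G)) {K L : Subgroup G}
    (hK : Cfsg.IsComponent K) (hL : Cfsg.IsComponent L) :
    ∃ x ∈ (P : Subgroup G), L = K.map (MulAut.conj x).toMonoidHom := by
  classical
  have hR : Cfsg.pCore p G = ⊥ := by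
    by_contra hR
    have h := layer_eq_bot_of_pCore_ne_bot H hR
    exact component_ne_bot hK (le_bot_iff.1 (h ▸ component_le_layer hK))
  have hF : Cfsg.fittingSubgroup G = ⊥ := by rw [fitting_eq_pCore H, hR]
  by_contra hno
  push Not at hno
  set S : Set (Subgroup G) := {K' | ∃ q ∈ (P : Subgroup G), K.map (MulAut.conj q).toMonoidHom = K'}
  set M := orbitJoin (P : Subgroup G) K
  set T : Set (Subgroup G) := {K' | Cfsg.IsComponent K' ∧ K' ∉ S}
  set N := sSup T
  have hS : ∀ K' ∈ S, Cfsg.IsComponent K' := by rintro _ ⟨q, -, rfl⟩; exact component_map_conj hK q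
  have hLN : L ≤ N := le_sSup ⟨hL, fun ⟨q, hq, he⟩ => hno q hq he.symm⟩
  have hPN : (P : Subgroup G) ≤ normalizer (N : Set G) := by
    rw [le_normalizer_iff]
    intro a ha k hk
    refine map_sSup_subset (MulAut.conj a).toMonoidHom ?_ ⟨k, hk, rfl⟩
    rintro K' ⟨hK', hK'S⟩
    refine ⟨component_map_conj hK' a, ?_⟩
    rintro ⟨q, hq, he⟩
    refine hK'S ⟨a⁻¹ * q, mul_mem (inv_mem ha) hq, ?_⟩
    rw [← map_conj_map_conj, he, map_conj_map_conj, inv_mul_cancel, map_conj_one]
  have hc : M ≤ centralizer (N : Set G) := by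
    refine sSup_le fun A hA => le_centralizer_of_commutator_eq_bot (commutator_sSup_eq_bot fun B hB => ?_)
    exact component_commutator_of_ne (hS A hA) hB.1 fun e => hB.2 (e ▸ hA)
  have hd : M ⊓ N = ⊥ := by
    have hle : M ⊓ N ≤ (center (Cfsg.layer G)).map (Cfsg.layer G).subtype := by
      intro z hz
      have hzE : z ∈ Cfsg.layer G := orbitJoin_le_layer hK hz.1
      refine ⟨⟨z, hzE⟩, mem_center_iff.2 fun g => Subtype.ext ?_, rfl⟩
      have hEc : Cfsg.layer G ≤ centralizer ({z} : Set G) := by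
        refine sSup_le fun A hA => ?_
        intro a ha
        rw [mem_centralizer_singleton_iff]
        by_cases hAS : A ∈ S
        · have := hc (le_sSup (s := S) hAS ha) z hz.2
          exact this.symm
        · exact hc hz.1 a (le_sSup (s := T) ⟨hA, hAS⟩ ha)
      exact mem_centralizer_singleton_iff.1 (hEc g.2)
    haveI : ((center (Cfsg.layer G)).map (Cfsg.layer G).subtype).Normal :=
      ConjAct.normal_of_characteristic_of_normal
    refine le_bot_iff.1 (hle.trans (hF ▸ le_fitting_of_normal inferInstance ?_))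
    let _ : CommGroup ↥(center (Cfsg.layer G)) :=
      { (inferInstance : Group ↥(center (Cfsg.layer G))) with mul_comm := fun a b => Subtype.ext (mem_center_iff.1 b.2 a) }
    haveI : Group.IsNilpotent ↥(center (Cfsg.layer G)) := CommGroup.isNilpotent
    exact Group.nilpotent_of_mulEquiv (equivMapOfInjective (center (Cfsg.layer G)) _ (Cfsg.layer G).subtype_injective)
  have key : ∀ (A B : Subgroup G), Cfsg.IsComponent A → A ≤ B → (P : Subgroup G) ≤ normalizer (B : Set G) →
      ¬ B.subgroupOf (P : Subgroup G) ≤ frattini ↥(P : Subgroup G) := by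
    intro A B hA hAB hPB hle
    have hnpc := CfsgLib.Transfer.hasNormalPComplement_of_le hAB (hasNormalPComplement_of_le_frattini P B hPB hle)
    haveI := (isPGroup_of_subnormal_npc H.core hA.1 hnpc).isNilpotent
    exact component_not_isSolvable hA inferInstance
  exact not_commute_pair H (le_normalizer_orbitJoin _ _) hPN hc hd
    (key K M hK (le_orbitJoin _ _) (le_normalizer_orbitJoin _ _)) (key L N hL hLN hPN)

end Main

end CfsgLib.TwoGenSylow
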